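import Groth.Agent.HomODer.Main
import Groth.Agent.ExtShX.Divisor
import Groth.Agent.RPushSite.SingleHomology
import Groth.Agent.BlowUpLib.Cartier
import Groth.Agent.KFlat.ClosedImm
import Groth.Agent.ResDesc.ResProp
import Groth.Agent.S8914

/-!
# `R Hom(O_D, O_X)` for an effective Cartier divisor
-/

set_option autoImplicit false
set_option linter.style.haveILetI false
set_option backward.isDefEq.respectTransparency false
set_option backward.isDefEq.respectTransparency.types false
set_option maxHeartbeats 1000000

universe v v' u u'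

open CategoryTheory CategoryTheory.Limits AlgebraicGeometry

attribute [local instance] HasDerivedCategory.standard

noncomputable section

namespace Groth.Agent.HomODer

section Single

variable {A : Type u} [Category.{v} A] [Abelian A] [EnoughInjectives A]
  {B : Type u'} [Category.{v'} B] [Abelian B] (F : A ⥤ B) [F.Additive]

/-- The cohomology of `RF` on an object in degree `0`. -/
theorem homology_plus_single (M : A) (E : DerivedCategory.Plus A)
    (hE : E.obj ≅ (DerivedCategory.singleFunctor A 0).obj M) :
    (∀ q : ℕ, Nonempty ((DerivedCategory.homologyFunctor B (q : ℤ)).obj (F.rightDerivedFunctorPlus.obj E).obj ≅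
      (F.rightDerived q).obj M)) ∧
    ∀ n : ℤ, n < 0 → IsZero ((DerivedCategory.homologyFunctor B n).obj (F.rightDerivedFunctorPlus.obj E).obj) := by
  let R := injectiveResolution M
  let L' : CochainComplex (InjectiveObject A) ℤ :=
    HomologicalComplex.liftObjectProperty _ R.cochainComplex inferInstance
  have hL' : L'.IsStrictlyGE 0 := by
    rw [← CochainComplex.isStrictlyGE_mapHomologicalComplex_obj_iff _ (InjectiveObject.ι A)]
    exact (inferInstance : R.cochainComplex.IsStrictlyGE 0)
  let K₀ : CochainComplex.Plus A := ⟨(CochainComplex.singleFunctor A 0).obj M, 0, inferInstance⟩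
  let L : CochainComplex.Plus (InjectiveObject A) := ⟨L', 0, hL'⟩
  let I₀ := (InjectiveObject.ι A).mapCochainComplexPlus.obj L
  let j : K₀ ⟶ I₀ := ObjectProperty.homMk R.ι'
  haveI := DerPlus.isIso_QP_map j (inferInstanceAs (QuasiIso R.ι'))
  let e₀ : DerivedCategory.Plus.Qh.obj ((HomotopyCategory.Plus.quotient A).obj K₀) ≅ E :=
    DerivedCategory.Plus.ι.preimageIso
      ((DerivedCategory.quotientCompQhIso A).app _ ≪≫
        ((DerivedCategory.singleFunctorIsoCompQ A 0).app M).symm ≪≫ hE.symm)
  let eP : DerivedCategory.Plus.Qh.obj ((HomotopyCategory.Plus.quotient A).obj I₀) ≅ E :=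
    (asIso (DerivedCategory.Plus.Qh.map ((HomotopyCategory.Plus.quotient A).map j))).symm ≪≫ e₀
  let η := F.rightDerivedFunctorPlusUnit
  haveI : IsIso (η.app ((HomotopyCategory.Plus.quotient A).obj I₀)) := inferInstance
  let eR : DerivedCategory.Q.obj ((F.mapHomologicalComplex (ComplexShape.up ℤ)).obj R.cochainComplex) ≅
      (F.rightDerivedFunctorPlus.obj E).obj :=
    ((DerivedCategory.quotientCompQhIso B).app _).symm ≪≫ DerivedCategory.Plus.ι.mapIso
      (asIso (η.app ((HomotopyCategory.Plus.quotient A).obj I₀)) ≪≫ F.rightDerivedFunctorPlus.mapIso eP)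
  let P := (F.mapHomologicalComplex (ComplexShape.up ℤ)).obj R.cochainComplex
  have eH : ∀ n, (DerivedCategory.homologyFunctor B n).obj (F.rightDerivedFunctorPlus.obj E).obj ≅ P.homology n :=
    fun n => (DerivedCategory.homologyFunctor B n).mapIso eR.symm ≪≫
      (DerivedCategory.homologyFunctorFactors B n).app P
  refine ⟨fun q => ?_, fun n hn => IsZero.of_iso ?_ (eH n)⟩
  · obtain ⟨e⟩ := RPushSite.nonempty_mapExtendIso F ComplexShape.embeddingUpNat R.cocomplex
    exact ⟨eH _ ≪≫ HomologicalComplex.homologyMapIso e _ ≪≫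
      HomologicalComplex.extendHomologyIso _ ComplexShape.embeddingUpNat (j := q) rfl ≪≫
        (R.isoRightDerivedObj F q).symm⟩
  · exact ShortComplex.isZero_homology_of_isZero_X₂ _
      (F.map_isZero (CochainComplex.isZero_of_isStrictlyGE R.cochainComplex 0 n hn))

end Single

variable {X : Scheme.{u}} (I : X.IdealSheafData) (hI : BlowUp.IsEffCartierIdeal I)

include hI in
/-- Nothing supported on the divisor maps to the structure sheaf. -/
theorem push_hom_eq_zero (M : I.subscheme.Modules)
    (φ : (Scheme.Modules.pushforward I.subschemeι).obj M ⟶ Coh.structureModule X) : φ = 0 := by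
  ext V m
  refine QC.section_eq_of_locally fun x hx => ?_
  obtain ⟨W, hxW, hWV, t, ht, he⟩ := BlowUpLib.exists_small_generator hI hx
  refine ⟨W.1, hWV, hxW, ?_⟩
  refine Eq.trans (QC.app_res φ hWV m) (Eq.trans ?_ (map_zero (QC.res (Coh.structureModule X) hWV)).symm)
  have h0 : (I.subschemeι.app W.1).hom t = 0 := by
    rw [← RingHom.mem_ker, ← Scheme.Hom.ker_apply, Scheme.IdealSheafData.ker_subschemeι, he]
    exact Ideal.mem_span_singleton_self t
  let s := QC.res ((Scheme.Modules.pushforward I.subschemeι).obj M) hWV m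
  have h1 : t • s = 0 := by
    have e : t • s = ((I.subschemeι.app W.1).hom t • ((show Γ(M, I.subschemeι ⁻¹ᵁ W.1) from s)) : Γ(M, I.subschemeι ⁻¹ᵁ W.1)) := rfl
    rw [e, h0, zero_smul]
  have h2 : t • φ.app W.1 s = 0 := by
    rw [← TMul.app_smul, h1, map_zero]
  exact (mul_right_mem_nonZeroDivisors_eq_zero_iff ht).1 (by rw [mul_comm]; exact h2)

variable [Dual3.HasHomO I.subschemeι]

include hI in
theorem isZero_homO_structureModule : IsZero ((Dual3.homO I.subschemeι).obj (Coh.structureModule X)) := by
  rw [IsZero.iff_id_eq_zero]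
  apply ((Dual3.homOAdj I.subschemeι).homEquiv _ _).symm.injective
  rw [push_hom_eq_zero I hI _ (((Dual3.homOAdj I.subschemeι).homEquiv _ _).symm (𝟙 _))]
  exact (push_hom_eq_zero I hI _ _).symm

variable [EnoughInjectives X.Modules]

omit [EnoughInjectives X.Modules] in
theorem isZero_of_push {D : Scheme.{u}} (i : D ⟶ X) [IsClosedImmersion i] {M : D.Modules}
    (h : IsZero ((Scheme.Modules.pushforward i).obj M)) : IsZero M := by
  haveI := GrothSS.isIso_counit_push i
  exact IsZero.of_iso ((Scheme.Modules.pullback i).map_isZero h)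
    ((asIso (Scheme.Modules.pullbackPushforwardAdjunction i).counit).app M).symm

include hI in
/-- `R Hom(O_D, O_X) = N[-1]`. -/
theorem rightDerived_homO_structureModule (L : X.Modules) (hL : ClSub.IsInverseOf L (ClSub.idealMod I)) :
    (∀ q : ℕ, q ≠ 1 → IsZero (((Dual3.homO I.subschemeι).rightDerived q).obj (Coh.structureModule X))) ∧
    Nonempty (((Dual3.homO I.subschemeι).rightDerived 1).obj (Coh.structureModule X) ≅
      (Scheme.Modules.pullback I.subschemeι).obj L) := by
  let i := I.subschemeι
  have hS := SerrePn.idealSeq_shortExact I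
  have hfree : FlatMod.IsFinLocFree (SerrePn.idealSeq I).X₁ :=
    ResDesc.isFinLocFree_of_isInvertible ((S8914.result I).mpr hI)
  obtain ⟨hL'⟩ := hL
  refine ⟨fun q hq => ?_, ?_⟩
  · rcases q with _ | _ | q
    · exact IsZero.of_iso (isZero_homO_structureModule I hI)
        ((Dual3.homO i).rightDerivedZeroIsoSelf.app _)
    · exact absurd rfl hq
    · obtain ⟨e⟩ := nonempty_push_rightDerived i (q + 2) (Coh.structureModule X)
      obtain ⟨e'⟩ := ExtShX.nonempty_firstShift hS (Coh.structureModule X)
        (fun k => ExtShX.isZero_of_finLocFree _ (ResDesc.isFinLocFree_structureModule X) k _) q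
      exact isZero_of_push i (IsZero.of_iso (ExtShX.isZero_of_finLocFree _ hfree q _) (e ≪≫ e'))
  · obtain ⟨e⟩ := nonempty_push_rightDerived i 1 (Coh.structureModule X)
    obtain ⟨e'⟩ := ExtShX.nonempty_R_one_divisor hS (Coh.structureModule X) (Iso.refl _) hL'
    refine GrothSS.nonempty_iso_of_push i ?_
    exact e ≪≫ e' ≪≫ PicGrp.tensorModIso (Iso.refl _) (SecTwist.unitorR L) ≪≫
      KFlat.projFormulaIso i (Coh.structureModule I.subscheme) L ≪≫
      (Scheme.Modules.pushforward i).mapIso (TMul.leftUnitIso _)

end Groth.Agent.HomODer
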