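import Groth.Agent.HomODer.Main
import Groth.Agent.DerPush.Exact
import Groth.Agent.RPlusComp.Adjunction
import Groth.Agent.KFlat.ClosedImm
import Groth.Agent.WayOut.Basic

/-!
# `R Hom(O_Z, -)` represents `Hom(i_* -, K)` on all of `D(O_Z)`
-/

set_option autoImplicit false
set_option linter.unusedSectionVars false
set_option linter.style.haveILetI false
set_option backward.isDefEq.respectTransparency false
set_option backward.isDefEq.respectTransparency.types false
set_option maxHeartbeats 1000000

universe u v w v' w'

open CategoryTheory CategoryTheory.Limits AlgebraicGeometry DerivedCategory Pretriangulated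

attribute [local instance] HasDerivedCategory.standard

noncomputable section

namespace Groth.Agent.HomODer

section Abstract

variable {A : Type w} [Category.{v} A] [Abelian A] {B : Type w'} [Category.{v'} B] [Abelian B]
  (F : A ⥤ B) [F.Additive] [PreservesFiniteLimits F] [PreservesFiniteColimits F] [EnoughInjectives A]

/-- The bounded below derived functor of an exact functor. -/
def plusIso : F.rightDerivedFunctorPlus ⋙ DerivedCategory.Plus.ι ≅
    (DerivedCategory.Plus.ι : DerivedCategory.Plus A ⥤ _) ⋙ F.mapDerivedCategory :=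
  have hinv : (HomotopyCategory.Plus.quasiIso A).IsInvertedBy
      (F.mapHomotopyCategoryPlus ⋙ DerivedCategory.Plus.Qh) := fun K L f hf => by
    haveI : IsIso (DerivedCategory.Qh.map f.hom) :=
      Localization.inverts DerivedCategory.Qh (HomotopyCategory.quasiIso A (ComplexShape.up ℤ)) _ hf
    rw [← isIso_iff_of_reflects_iso _ DerivedCategory.Plus.ι]
    show IsIso ((F.mapHomotopyCategory (ComplexShape.up ℤ) ⋙ DerivedCategory.Qh).map f.hom)
    rw [← NatIso.isIso_map_iff F.mapDerivedCategoryFactorsh f.hom]
    exact Functor.map_isIso F.mapDerivedCategory _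
  haveI : IsIso F.rightDerivedFunctorPlusUnit :=
    (Functor.isRightDerivedFunctor_iff_of_inverts F.rightDerivedFunctorPlus F.rightDerivedFunctorPlusUnit hinv).1
      inferInstance
  Localization.liftNatIso DerivedCategory.Plus.Qh (HomotopyCategory.Plus.quasiIso A)
    (DerivedCategory.Plus.Qh ⋙ F.rightDerivedFunctorPlus ⋙ DerivedCategory.Plus.ι)
    (DerivedCategory.Plus.Qh ⋙ DerivedCategory.Plus.ι ⋙ F.mapDerivedCategory) _ _
    ((Functor.associator _ _ _).symm ≪≫
      Functor.isoWhiskerRight (asIso F.rightDerivedFunctorPlusUnit).symm _ ≪≫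
      Functor.associator _ _ _ ≪≫
      Functor.isoWhiskerLeft _ (DerivedCategory.Plus.QhCompιIsoιCompQh B) ≪≫
      Functor.isoWhiskerLeft (HomotopyCategory.Plus.ι A) F.mapDerivedCategoryFactorsh.symm ≪≫
      (Functor.associator _ _ _).symm ≪≫
      Functor.isoWhiskerRight (DerivedCategory.Plus.QhCompιIsoιCompQh A).symm _ ≪≫ Functor.associator _ _ _)

variable {F} [EnoughInjectives B] {R : DerivedCategory.Plus B ⥤ DerivedCategory.Plus A}

/-- The counit on the derived category. -/
def cou (adjP : F.rightDerivedFunctorPlus ⊣ R) (L : DerivedCategory.Plus B) :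
    F.mapDerivedCategory.obj (R.obj L).obj ⟶ L.obj :=
  (plusIso F).inv.app (R.obj L) ≫ DerivedCategory.Plus.ι.map (adjP.counit.app L)

lemma cou_natural (adjP : F.rightDerivedFunctorPlus ⊣ R) {L L' : DerivedCategory.Plus B} (f : L ⟶ L') :
    F.mapDerivedCategory.map (DerivedCategory.Plus.ι.map (R.map f)) ≫ cou adjP L' =
      cou adjP L ≫ DerivedCategory.Plus.ι.map f := by
  have h := (plusIso F).inv.naturality (R.map f)
  dsimp only [Functor.comp_map] at h
  rw [cou, cou, ← Category.assoc, h, Category.assoc, Category.assoc, ← Functor.map_comp, ← Functor.map_comp]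
  exact congrArg (fun k => (plusIso F).inv.app (R.obj L) ≫ DerivedCategory.Plus.ι.map k) (adjP.counit.naturality f)

theorem bijective_of_plus (adjP : F.rightDerivedFunctorPlus ⊣ R) (N : DerivedCategory.Plus A)
    (L : DerivedCategory.Plus B) :
    Function.Bijective (fun v : N.obj ⟶ (R.obj L).obj => F.mapDerivedCategory.map v ≫ cou adjP L) := by
  let e1 : (N ⟶ R.obj L) ≃ (N.obj ⟶ (R.obj L).obj) :=
    Functor.FullyFaithful.homEquiv (Functor.FullyFaithful.ofFullyFaithful DerivedCategory.Plus.ι)
  let e2 : (F.rightDerivedFunctorPlus.obj N ⟶ L) ≃ (F.mapDerivedCategory.obj N.obj ⟶ L.obj) :=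
    (Functor.FullyFaithful.homEquiv (Functor.FullyFaithful.ofFullyFaithful DerivedCategory.Plus.ι)).trans
      (((plusIso F).app N).homCongr (Iso.refl _))
  refine (Function.Bijective.of_comp_iff _ e1.bijective).1 ?_
  convert ((adjP.homEquiv N L).symm.trans e2).bijective using 1
  funext f
  show F.mapDerivedCategory.map (DerivedCategory.Plus.ι.map f) ≫ cou adjP L =
    (plusIso F).inv.app N ≫ DerivedCategory.Plus.ι.map ((adjP.homEquiv N L).symm f) ≫ 𝟙 _
  rw [Category.comp_id, Adjunction.homEquiv_counit, Functor.map_comp]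
  have h := (plusIso F).inv.naturality f
  dsimp only [Functor.comp_map] at h
  rw [cou, ← Category.assoc, h, Category.assoc]

omit [EnoughInjectives A] [EnoughInjectives B] in
lemma isLE_map (X : DerivedCategory A) (n : ℤ) (h : X.IsLE n) : (F.mapDerivedCategory.obj X).IsLE n :=
  WayOut.isLE_mapDerived F X n h

theorem bijective_all (adjP : F.rightDerivedFunctorPlus ⊣ R) (M : DerivedCategory A) (L : DerivedCategory.Plus B) :
    Function.Bijective (fun v : M ⟶ (R.obj L).obj => F.mapDerivedCategory.map v ≫ cou adjP L) := by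
  obtain ⟨c₁, h₁⟩ := (R.obj L).property
  obtain ⟨c₂, h₂⟩ := L.property
  let c := min c₁ c₂
  haveI : TStructure.t.IsGE (R.obj L).obj c := TStructure.t.isGE_of_ge _ c c₁ (min_le_left _ _)
  haveI : TStructure.t.IsGE L.obj c := TStructure.t.isGE_of_ge _ c c₂ (min_le_right _ _)
  let π : M ⟶ (TStructure.t.truncGE c).obj M := (TStructure.t.truncGEπ c).app M
  have hT := TStructure.t.triangleLTGE_distinguished c M
  have hle : TStructure.t.IsLE ((TStructure.t.truncLT c).obj M) (c - 1) := TStructure.t.isLE_truncLT_obj M c (c - 1)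
  have hFT := F.mapDerivedCategory.map_distinguished _ hT
  have hFle : TStructure.t.IsLE (F.mapDerivedCategory.obj ((TStructure.t.truncLT c).obj M)) (c - 1) :=
    isLE_map _ _ hle
  have b1 : Function.Bijective (fun w : (TStructure.t.truncGE c).obj M ⟶ (R.obj L).obj => π ≫ w) := by
    refine ⟨fun w w' hw => ?_, fun v => ?_⟩
    · exact TStructure.t.from_truncGE_obj_ext hw
    · exact ⟨TStructure.t.descTruncGE v c, TStructure.t.π_descTruncGE v c⟩
  have b2 : Function.Bijective (fun w : F.mapDerivedCategory.obj ((TStructure.t.truncGE c).obj M) ⟶ L.obj =>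
      F.mapDerivedCategory.map π ≫ w) := by
    refine ⟨fun w w' hw => ?_, fun v => ?_⟩
    · have h0 : F.mapDerivedCategory.map π ≫ (w - w') = 0 := by
        rw [Preadditive.comp_sub, show F.mapDerivedCategory.map π ≫ w = F.mapDerivedCategory.map π ≫ w' from hw, sub_self]
      obtain ⟨g, hg⟩ := Triangle.yoneda_exact₃ _ hFT (w - w') h0
      haveI := hFle
      haveI : TStructure.t.IsLE ((F.mapDerivedCategory.mapTriangle.obj
          ((TStructure.t.triangleLTGE c).obj M)).obj₁⟦(1 : ℤ)⟧) (c - 2) := by
        change TStructure.t.IsLE ((F.mapDerivedCategory.obj ((TStructure.t.truncLT c).obj M))⟦(1 : ℤ)⟧) (c - 2)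
        exact TStructure.t.isLE_shift _ (c - 1) 1 (c - 2) (by omega)
      rw [← sub_eq_zero, hg, TStructure.t.zero g (c - 2) c (by omega), comp_zero]
    · haveI : TStructure.t.IsLE (F.mapDerivedCategory.mapTriangle.obj
          ((TStructure.t.triangleLTGE c).obj M)).obj₁ (c - 1) := hFle
      obtain ⟨g, hg⟩ := Triangle.yoneda_exact₂ _ hFT v (TStructure.t.zero _ (c - 1) c (by omega))
      exact ⟨g, hg.symm⟩
  haveI : TStructure.t.IsGE ((TStructure.t.truncGE c).obj M) c := inferInstance
  have b3 := bijective_of_plus adjP ⟨(TStructure.t.truncGE c).obj M, c, inferInstance⟩ L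
  refine (Function.Bijective.of_comp_iff _ b1).1 ?_
  convert b2.comp b3 using 1
  funext w
  simp only [Function.comp_apply, Functor.map_comp, Category.assoc]

end Abstract

section Sch

variable {X Y : Scheme.{u}} (f : X ⟶ Y) [DCoh.HasRpush f] [IsClosedImmersion f]

instance preservesHomology_push : (Scheme.Modules.pushforward f).PreservesHomology :=
  KFlat.preservesHomology_pushforward f

instance preservesFiniteLimits_push : PreservesFiniteLimits (Scheme.Modules.pushforward f) :=
  Functor.preservesFiniteLimits_of_preservesHomology _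

instance preservesFiniteColimits_push : PreservesFiniteColimits (Scheme.Modules.pushforward f) :=
  Functor.preservesFiniteColimits_of_preservesHomology _

/-- `Rf_*` of a closed immersion. -/
def rpushIso : DCoh.Rpush f ≅ (Scheme.Modules.pushforward f).mapDerivedCategory :=
  haveI : ∀ K, IsIso ((DerPush.rpushUnit f).app K) := fun K =>
    DerPush.isIso_rpushUnit_app_of_exact f K.as
  Localization.liftNatIso DerivedCategory.Qh (HomotopyCategory.quasiIso X.Modules (ComplexShape.up ℤ))
    (DerivedCategory.Qh ⋙ DCoh.Rpush f) (DerivedCategory.Qh ⋙ (Scheme.Modules.pushforward f).mapDerivedCategory) _ _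
    ((NatIso.ofComponents (fun K => asIso ((DerPush.rpushUnit f).app K))
      (fun φ => (DerPush.rpushUnit f).naturality φ)).symm ≪≫
      (Scheme.Modules.pushforward f).mapDerivedCategoryFactorsh.symm)

end Sch

end Groth.Agent.HomODer
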