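import Groth.Agent.HomODer.Shape
import Groth.Agent.ExtShX.Rep
import Groth.Agent.ExtShX.AffineTilde
import Groth.Agent.ExtShX.CohLocal
import Groth.Agent.DQCoh.Serre
import Groth.Agent.RHomCx.CohFive
import Groth.Agent.DerPlus.LongExact
import Groth.Prelude.Def_Dual3

/-!
# `R Hom(O_Z, -)` preserves quasi-coherence and coherence of cohomology
-/

set_option autoImplicit false
set_option linter.style.haveILetI false
set_option backward.isDefEq.respectTransparency false
set_option backward.isDefEq.respectTransparency.types false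
set_option maxHeartbeats 1000000

universe u

open CategoryTheory CategoryTheory.Limits AlgebraicGeometry

attribute [local instance] HasDerivedCategory.standard

noncomputable section

namespace Groth.Agent.HomODer

variable {Z X : Scheme.{u}}

theorem five_qcoh (Z : Scheme.{u}) : Five (fun M : Z.Modules => Coh.IsQCoh M) where
  zero _ h := DQCoh.isQCoh_of_isZero h
  iso _ _ e h := QC.isQCoh_of_iso e h
  five f₁ f₂ f₃ f₄ w₁ w₂ w₃ e₁ e₂ e₃ h₁ h₂ h₄ h₅ :=
    DQCoh.isQCoh_of_exact₅ f₁ f₂ f₃ f₄ w₁ w₂ w₃ e₁ e₂ e₃ h₁ h₂ h₄ h₅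

theorem five_coh (Z : Scheme.{u}) [IsLocallyNoetherian Z] : Five (fun M : Z.Modules => Coh.IsCoh M) where
  zero _ h := K0Coh.isCoh_of_isZero h
  iso _ _ e h := CohFinite.isCoh_of_iso e h
  five f₁ f₂ f₃ f₄ w₁ w₂ w₃ e₁ e₂ e₃ h₁ h₂ h₄ h₅ :=
    RHomCx.isCoh_of_exact₅ f₁ f₂ f₃ f₄ w₁ w₂ w₃ e₁ e₂ e₃ h₁ h₂ h₄ h₅

theorem isQCoh_R_loc [IsLocallyNoetherian X] (F N : X.Modules) (hF : Coh.IsCoh F) (hN : Coh.IsQCoh N) (q : ℕ) :
    Coh.IsQCoh ((ExtShX.R F q).obj N) := by
  refine DQCoh.isQCoh_of_restrict_opens fun x => ?_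
  obtain ⟨U, hU, hx⟩ := QC.exists_affine_mem x
  haveI : IsAffine (U : Scheme.{u}) := hU
  obtain ⟨e⟩ := ExtShX.nonempty_R_restrict U F q
  exact ⟨U, hx, QC.isQCoh_of_iso
    ((e.app N).symm ≪≫ ((Scheme.Modules.restrictFunctorIsoPullback U.ι).app _).symm)
    (ExtShX.isQCoh_R (ExtShX.covers_affine (U : Scheme.{u})) q _ _ (QC.isCoh_pullback U.ι hF)
      (QC.isQCoh_pullback U.ι hN))⟩

variable (i : Z ⟶ X) [IsClosedImmersion i] [Dual3.HasHomO i]

instance preservesFiniteLimits_homO : PreservesFiniteLimits (Dual3.homO i) :=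
  haveI : PreservesLimitsOfSize.{0, 0} (Dual3.homO i) := (Dual3.homOAdj i).rightAdjoint_preservesLimits
  inferInstance

/-- The derived functors of `Hom(O_Z, -)` inside the Ext sheaves. -/
theorem nonempty_push_rightDerived (q : ℕ) (N : X.Modules) :
    Nonempty ((Scheme.Modules.pushforward i).obj (((Dual3.homO i).rightDerived q).obj N) ≅
      (ExtShX.R ((Scheme.Modules.pushforward i).obj (Coh.structureModule Z)) q).obj N) := by
  obtain ⟨T, _, _, adj, -, h⟩ := ExtShX.exists_shriek i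
  obtain ⟨e⟩ := h q N
  exact ⟨(Scheme.Modules.pushforward i).mapIso
    ((GrothSS.rightDerivedMapIso ((Dual3.homOAdj i).rightAdjointUniq adj) q).app N) ≪≫ e⟩

variable [IsLocallyNoetherian X]

theorem isCoh_pushO : Coh.IsCoh ((Scheme.Modules.pushforward i).obj (Coh.structureModule Z)) :=
  haveI := LocallyOfFiniteType.isLocallyNoetherian i
  SerrePn.isCoh_push i RefStalk.isCoh_structureModule

theorem isQCoh_rightDerived (q : ℕ) {N : X.Modules} (hN : Coh.IsQCoh N) :
    Coh.IsQCoh (((Dual3.homO i).rightDerived q).obj N) := by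
  obtain ⟨e⟩ := nonempty_push_rightDerived i q N
  haveI := GrothSS.isIso_counit_push i
  exact QC.isQCoh_of_iso ((asIso (Scheme.Modules.pullbackPushforwardAdjunction i).counit).app _)
    (QC.isQCoh_pullback i (QC.isQCoh_of_iso e.symm (isQCoh_R_loc _ N (isCoh_pushO i) hN q)))

theorem isCoh_rightDerived (q : ℕ) {N : X.Modules} (hN : Coh.IsCoh N) :
    Coh.IsCoh (((Dual3.homO i).rightDerived q).obj N) := by
  obtain ⟨e⟩ := nonempty_push_rightDerived i q N
  exact ExtShX.isCoh_of_push i _ (CohFinite.isCoh_of_iso e.symm (ExtShX.isCoh_R_loc _ N (isCoh_pushO i) hN q))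

variable [EnoughInjectives X.Modules]

omit [IsClosedImmersion i] [IsLocallyNoetherian X] in
/-- A representative by injectives. -/
theorem exists_injective_rep (E : DerivedCategory.Plus X.Modules) :
    ∃ (I : CochainComplex X.Modules ℤ) (a : ℤ), I.IsStrictlyGE a ∧ (∀ n, Injective (I.X n)) ∧
      Nonempty (DerivedCategory.Q.obj I ≅ E.obj) ∧
      Nonempty (DerivedCategory.Q.obj (((Dual3.homO i).mapHomologicalComplex (ComplexShape.up ℤ)).obj I) ≅
        ((Dual3.RHomOPlus i).obj E).obj) := by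
  let A := X.Modules
  let K₁ : HomotopyCategory.Plus A := (DerivedCategory.Plus.Qh (C := A)).objPreimage E
  obtain ⟨K, ⟨eK⟩⟩ := Functor.EssSurj.mem_essImage (F := HomotopyCategory.Plus.quotient A) K₁
  obtain ⟨a, ha⟩ := K.property
  obtain ⟨L, hL, j, hj⟩ := CochainComplex.Plus.exists_quasiIso_injective K a
  let I₀ := (InjectiveObject.ι A).mapCochainComplexPlus.obj L
  haveI := DerPlus.isIso_QP_map j hj
  let eP : DerivedCategory.Plus.Qh.obj ((HomotopyCategory.Plus.quotient A).obj I₀) ≅ E :=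
    (asIso (DerivedCategory.Plus.Qh.map ((HomotopyCategory.Plus.quotient A).map j))).symm ≪≫
      DerivedCategory.Plus.Qh.mapIso eK ≪≫ (DerivedCategory.Plus.Qh (C := A)).objObjPreimageIso E
  let η := (Dual3.homO i).rightDerivedFunctorPlusUnit
  haveI : IsIso (η.app ((HomotopyCategory.Plus.quotient A).obj I₀)) := inferInstance
  let eR := asIso (η.app ((HomotopyCategory.Plus.quotient A).obj I₀)) ≪≫ (Dual3.RHomOPlus i).mapIso eP
  exact ⟨I₀.obj, a, (CochainComplex.isStrictlyGE_mapHomologicalComplex_obj_iff L.obj (InjectiveObject.ι A) a).2 hL,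
    fun n => (L.obj.X n).property,
    ⟨((DerivedCategory.quotientCompQhIso A).app _).symm ≪≫ DerivedCategory.Plus.ι.mapIso eP⟩,
    ⟨((DerivedCategory.quotientCompQhIso Z.Modules).app _).symm ≪≫ DerivedCategory.Plus.ι.mapIso eR⟩⟩

omit [IsClosedImmersion i] [IsLocallyNoetherian X] in
theorem prop_RHomO (P : ObjectProperty Z.Modules) (hP : Five P) (Q : ObjectProperty X.Modules)
    (hQ : ∀ M N : X.Modules, (M ≅ N) → Q M → Q N)
    (h : ∀ q (N : X.Modules), Q N → P (((Dual3.homO i).rightDerived q).obj N))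
    (E : DerivedCategory.Plus X.Modules) (hE : ∀ n, Q (DCoh.HD E.obj n)) (n : ℤ) :
    P (DCoh.HD ((Dual3.RHomOPlus i).obj E).obj n) := by
  obtain ⟨I, a, hI, hinj, ⟨eA⟩, ⟨eB⟩⟩ := exists_injective_rep i E
  haveI := hI
  haveI := hinj
  refine hP.iso _ _ (((DerivedCategory.homologyFunctorFactors Z.Modules n).app _).symm ≪≫
    (DerivedCategory.homologyFunctor Z.Modules n).mapIso eB) ?_
  exact prop_homology_map (Dual3.homO i) I P hP a (fun m q => h q _
    (hQ _ _ ((DerivedCategory.homologyFunctor X.Modules m).mapIso eA.symm ≪≫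
      (DerivedCategory.homologyFunctorFactors X.Modules m).app I) (hE m))) n

end Groth.Agent.HomODer
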