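import Groth.Agent.RDerLib.LES
import Mathlib

/-!
# Cohomology of a left exact functor on a bounded below complex of injectives, up to a property
-/

set_option autoImplicit false
set_option linter.unusedVariables false
set_option linter.unusedSectionVars false
set_option linter.style.haveILetI false
set_option backward.isDefEq.respectTransparency false
set_option backward.isDefEq.respectTransparency.types false
set_option maxHeartbeats 1000000

universe v u v' u'

open CategoryTheory Category Limits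
open scoped ZeroObject

noncomputable section

namespace Groth.Agent.HomODer

variable {A : Type u} [Category.{v} A] [Abelian A] [HasInjectiveResolutions A] {D : Type u'} [Category.{v'} D]
  [Abelian D] (T : A ⥤ D) [T.Additive] [PreservesFiniteLimits T]

/-- A property closed under the five term rule. -/
structure Five (P : ObjectProperty D) : Prop where
  zero : ∀ M : D, IsZero M → P M
  iso : ∀ M N : D, (M ≅ N) → P M → P N
  five : ∀ {A₁ A₂ M A₄ A₅ : D} (f₁ : A₁ ⟶ A₂) (f₂ : A₂ ⟶ M) (f₃ : M ⟶ A₄) (f₄ : A₄ ⟶ A₅)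
    (w₁ : f₁ ≫ f₂ = 0) (w₂ : f₂ ≫ f₃ = 0) (w₃ : f₃ ≫ f₄ = 0), (ShortComplex.mk f₁ f₂ w₁).Exact →
    (ShortComplex.mk f₂ f₃ w₂).Exact → (ShortComplex.mk f₃ f₄ w₃).Exact → P A₁ → P A₂ → P A₄ → P A₅ → P M

variable (I : CochainComplex A ℤ)

/-- The boundaries. -/
abbrev Bd (n : ℤ) : A := kernel (I.homologyπ n)

/-- Boundaries, cycles, cohomology. -/
abbrev seqH (n : ℤ) : ShortComplex A := ShortComplex.mk (kernel.ι (I.homologyπ n)) (I.homologyπ n) (kernel.condition _)

lemma seqH_shortExact (n : ℤ) : (seqH I n).ShortExact :=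
  { exact := ShortComplex.exact_kernel _ }

/-- The differential onto the boundaries. -/
abbrev dB (i j : ℤ) : I.X i ⟶ Bd I j := kernel.lift (I.homologyπ j) (I.toCycles i j) (I.toCycles_comp_homologyπ i j)

lemma epi_dB (i j : ℤ) (h : i + 1 = j) : Epi (dB I i j) := by
  subst h
  exact (ShortComplex.exact_of_g_is_cokernel
    (ShortComplex.mk (I.toCycles i (i + 1)) (I.homologyπ (i + 1)) (I.toCycles_comp_homologyπ i (i + 1)))
    (I.homologyIsCokernel i (i + 1) (by simp))).epi_kernelLift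

lemma dB_fac (i j : ℤ) : dB I i j ≫ kernel.ι (I.homologyπ j) ≫ I.iCycles j = I.d i j := by
  rw [kernel.lift_ι_assoc, HomologicalComplex.toCycles_i]

/-- Cycles, terms, boundaries. -/
abbrev seqX (i j : ℤ) (h : i + 1 = j) : ShortComplex A :=
  ShortComplex.mk (I.iCycles i) (dB I i j) (by
    rw [← cancel_mono (kernel.ι (I.homologyπ j) ≫ I.iCycles j), assoc, dB_fac, zero_comp, I.iCycles_d])

lemma seqX_shortExact (i j : ℤ) (h : i + 1 = j) : (seqX I i j h).ShortExact := by
  haveI := epi_dB I i j h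
  refine { exact := ?_ }
  refine ShortComplex.exact_of_f_is_kernel _ (KernelFork.IsLimit.ofι' _ _ fun {W} k hk => ?_)
  refine ⟨I.liftCycles k j (by simp [h]) ?_, I.liftCycles_i _ _ _ _⟩
  rw [← dB_fac I i j, ← assoc, show k ≫ dB I i j = 0 from hk, zero_comp]

variable [∀ i, Injective (I.X i)] (P : ObjectProperty D) (hP : Five P)

include hP in
lemma prop_higher_cycles (n : ℤ) (hB : ∀ q, P ((T.rightDerived (q + 1)).obj (Bd I n)))
    (hH : ∀ q, P ((T.rightDerived q).obj (I.homology n))) (q : ℕ) :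
    P ((T.rightDerived (q + 1)).obj (I.cycles n)) := by
  let r := RDerLib.res (seqH_shortExact I n)
  exact hP.five (r.delta T q (q + 1) rfl) ((T.rightDerived (q + 1)).map (seqH I n).f)
    ((T.rightDerived (q + 1)).map (seqH I n).g) (r.delta T (q + 1) (q + 1 + 1) rfl) _ _ _
    (RDerLib.exact₁ T r q (q + 1) rfl) (RDerLib.exact₂ T r (q + 1)) (RDerLib.exact₃ T r (q + 1) (q + 1 + 1) rfl)
    (hH q) (hB q) (hH (q + 1)) (hB (q + 1))

lemma nonempty_iso_shift (i j : ℤ) (h : i + 1 = j) (q : ℕ) :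
    Nonempty ((T.rightDerived (q + 1)).obj (Bd I j) ≅ (T.rightDerived (q + 1 + 1)).obj (I.cycles i)) := by
  let r := RDerLib.res (seqX_shortExact I i j h)
  haveI : Mono (r.delta T (q + 1) (q + 1 + 1) rfl) :=
    (RDerLib.exact₃ T r (q + 1) (q + 1 + 1) rfl).mono_g
      ((T.isZero_rightDerived_obj_injective_succ q (I.X i)).eq_of_src _ _)
  haveI : Epi (r.delta T (q + 1) (q + 1 + 1) rfl) :=
    (RDerLib.exact₁ T r (q + 1) (q + 1 + 1) rfl).epi_f
      ((T.isZero_rightDerived_obj_injective_succ (q + 1) (I.X i)).eq_of_tgt _ _)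
  haveI := isIso_of_mono_of_epi (r.delta T (q + 1) (q + 1 + 1) rfl)
  exact ⟨asIso (r.delta T (q + 1) (q + 1 + 1) rfl)⟩

include hP in
lemma prop_higher_bd (a : ℤ) [I.IsStrictlyGE a] (hH : ∀ n q, P ((T.rightDerived q).obj (I.homology n))) :
    ∀ (k : ℕ) (n : ℤ), n ≤ a + k → ∀ q, P ((T.rightDerived (q + 1)).obj (Bd I n))
  | 0, n, hn, q => by
    haveI := epi_dB I (n - 1) n (by omega)
    refine hP.zero _ ((T.rightDerived (q + 1)).map_isZero ?_)
    exact IsZero.of_epi (dB I (n - 1) n) (I.isZero_of_isStrictlyGE a (n - 1) (by omega))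
  | k + 1, n, hn, q => by
    obtain ⟨e⟩ := nonempty_iso_shift T I (n - 1) n (by omega) q
    exact hP.iso _ _ e.symm
      (prop_higher_cycles T I P hP (n - 1) (prop_higher_bd a hH k (n - 1) (by omega)) (hH (n - 1)) (q + 1))

/-- Cohomology of the image complex as a cokernel. -/
lemma nonempty_homologyIso (i j : ℤ) (h : i + 1 = j) :
    Nonempty (cokernel ((T.rightDerived 0).map (I.toCycles i j)) ≅
      ((T.mapHomologicalComplex (ComplexShape.up ℤ)).obj I).homology j) := by
  let TI := (T.mapHomologicalComplex (ComplexShape.up ℤ)).obj I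
  let hk := isLimitForkMapOfIsLimit' T (I.iCycles_d j (j + 1)) (I.cyclesIsKernel j (j + 1) (by simp))
  let e : T.obj (I.cycles j) ≅ TI.cycles j := hk.conePointUniqueUpToIso (TI.cyclesIsKernel j (j + 1) (by simp))
  have he : e.hom ≫ TI.iCycles j = T.map (I.iCycles j) :=
    hk.conePointUniqueUpToIso_hom_comp (TI.cyclesIsKernel j (j + 1) (by simp)) WalkingParallelPair.zero
  have hc : T.map (I.toCycles i j) ≫ e.hom = TI.toCycles i j := by
    rw [← cancel_mono (TI.iCycles j), assoc, he, ← T.map_comp, HomologicalComplex.toCycles_i,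
      HomologicalComplex.toCycles_i]
    rfl
  let z := T.rightDerivedZeroIsoSelf
  exact ⟨cokernel.mapIso _ (TI.toCycles i j) (z.app _) (z.app _ ≪≫ e) (by
    simp only [Iso.trans_hom, Iso.app_hom]
    rw [← assoc, z.hom.naturality, assoc, hc]) ≪≫
      (colimit.isColimit _).coconePointUniqueUpToIso (TI.homologyIsCokernel i j (by simp; omega))⟩

include hP in
/-- The cohomology of the image complex has the property. -/
theorem prop_homology_map (a : ℤ) [I.IsStrictlyGE a] (hH : ∀ n q, P ((T.rightDerived q).obj (I.homology n))) (j : ℤ) :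
    P (((T.mapHomologicalComplex (ComplexShape.up ℤ)).obj I).homology j) := by
  obtain ⟨i, hij⟩ : ∃ i, i + 1 = j := ⟨j - 1, by omega⟩
  have hB := fun n => prop_higher_bd T I P hP a hH (n - a).toNat n (by omega)
  obtain ⟨eH⟩ := nonempty_homologyIso T I i j hij
  refine hP.iso _ _ eH ?_
  let R₀ := T.rightDerived 0
  let rX := RDerLib.res (seqX_shortExact I i j hij)
  let rH := RDerLib.res (seqH_shortExact I j)
  have e₁ := RDerLib.exact₃ T rX 0 1 rfl
  haveI : Epi (rX.delta T 0 1 rfl) := (RDerLib.exact₁ T rX 0 1 rfl).epi_f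
    ((T.isZero_rightDerived_obj_injective_succ 0 (I.X i)).eq_of_tgt _ _)
  haveI : Mono (R₀.map (seqH I j).f) := by
    haveI : Mono (T.map (seqH I j).f) := T.map_mono _
    exact ((MorphismProperty.monomorphisms D).arrow_mk_iso_iff
      (Arrow.isoMk (T.rightDerivedZeroIsoSelf.app _) (T.rightDerivedZeroIsoSelf.app _)
        (T.rightDerivedZeroIsoSelf.hom.naturality (seqH I j).f).symm)).2 this
  have hf : R₀.map (dB I i j) ≫ R₀.map (seqH I j).f = R₀.map (I.toCycles i j) := by
    rw [← Functor.map_comp]; exact congrArg R₀.map (kernel.lift_ι _ _ _)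
  let π := cokernel.π (R₀.map (I.toCycles i j))
  let g : cokernel (R₀.map (I.toCycles i j)) ⟶ R₀.obj (I.homology j) :=
    cokernel.desc _ (R₀.map (I.homologyπ j)) (by rw [← Functor.map_comp, I.toCycles_comp_homologyπ, Functor.map_zero])
  let j₁ := e₁.desc (R₀.map (seqH I j).f ≫ π) (by rw [← assoc, hf, cokernel.condition])
  have hj₁ : rX.delta T 0 1 rfl ≫ j₁ = R₀.map (seqH I j).f ≫ π := e₁.g_desc _ _
  haveI : Mono j₁ := by
    rw [Preadditive.mono_iff_cancel_zero]
    intro W x hx
    obtain ⟨W', p, hp, y, hy⟩ := surjective_up_to_refinements_of_epi (rX.delta T 0 1 rfl) x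
    have hz : (y ≫ R₀.map (seqH I j).f) ≫ π = 0 := by rw [assoc, ← hj₁, ← assoc, ← hy, assoc, hx, comp_zero]
    obtain ⟨W'', p', hp', z, hz'⟩ := (ShortComplex.exact_cokernel (R₀.map (I.toCycles i j))).exact_up_to_refinements _ hz
    have hy' : p' ≫ y = z ≫ R₀.map (dB I i j) := by
      rw [← cancel_mono (R₀.map (seqH I j).f), assoc, assoc, hf]
      exact hz'
    rw [← cancel_epi p, ← cancel_epi p', hy, ← assoc, hy', assoc, RDerLib.g_delta T rX 0 1 rfl, comp_zero, comp_zero, comp_zero]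
  have hz : (0 : (0 : D) ⟶ _) ≫ j₁ = 0 := zero_comp
  have hjg : j₁ ≫ g = 0 := by
    rw [← cancel_epi (rX.delta T 0 1 rfl), ← assoc, hj₁, assoc, cokernel.π_desc, comp_zero, ← Functor.map_comp]
    exact (congrArg R₀.map (seqH I j).zero).trans (Functor.map_zero _ _ _)
  have hgd : g ≫ rH.delta T 0 1 rfl = 0 := by
    rw [← cancel_epi π, comp_zero, cokernel.π_desc_assoc]
    exact RDerLib.g_delta T rH 0 1 rfl
  refine hP.five (0 : (0 : D) ⟶ _) j₁ g (rH.delta T 0 1 rfl) hz hjg hgd
    ((ShortComplex.exact_iff_mono _ rfl).2 inferInstance) ?_ ?_ (hP.zero _ (isZero_zero _))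
    (prop_higher_cycles T I P hP i (hB i) (hH i) 0) (hH j 0) (hB j 0)
  · rw [ShortComplex.exact_iff_exact_up_to_refinements]
    intro W x hx
    obtain ⟨W', p, hp, y, hy⟩ := surjective_up_to_refinements_of_epi π x
    have hy0 : y ≫ R₀.map (I.homologyπ j) = 0 := by
      rw [← show π ≫ g = R₀.map (I.homologyπ j) from cokernel.π_desc _ _ _, ← assoc, ← hy, assoc, hx, comp_zero]
    obtain ⟨W'', p', hp', z, hz'⟩ := (RDerLib.exact₂ T rH 0).exact_up_to_refinements y hy0
    refine ⟨W'', p' ≫ p, inferInstance, z ≫ rX.delta T 0 1 rfl, ?_⟩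
    change (p' ≫ p) ≫ x = (z ≫ rX.delta T 0 1 rfl) ≫ j₁
    rw [assoc, hy, assoc, hj₁, ← assoc, hz', assoc]
  · rw [ShortComplex.exact_iff_exact_up_to_refinements]
    intro W x hx
    obtain ⟨W', p, hp, y, hy⟩ := (RDerLib.exact₃ T rH 0 1 rfl).exact_up_to_refinements x hx
    refine ⟨W', p, hp, y ≫ π, ?_⟩
    change p ≫ x = (y ≫ π) ≫ g
    rw [assoc, cokernel.π_desc]
    exact hy

end Groth.Agent.HomODer
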